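import Cfsg.Agent.Lib.Spor.Cos.O7.Iso
import Cfsg.Agent.Lib.Spor.Cos.Fi22.Order

/-!
The point stabiliser of Fi22 on 14080 points as an orthogonal group.
-/

set_option autoImplicit false
set_option maxRecDepth 100000

open Cfsg.Spor

namespace Cfsg.Agent.Spor.Cos.O7

/-- The eight generators inside Fi22. -/
noncomputable def sub8 (s : ℕ) : Spor.Fi22 := if s < 8 then Fi22.g (s + 1) else 1

theorem ev_sub8 : ∀ w : List ℕ, (∀ s ∈ w, s < 8) → ev sub8 w = ev Fi22.g (w.map fun s => s + 1)
  | [], _ => rfl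
  | s :: w, h => by
    simp only [ev, List.map_cons, sub8, if_pos (h s (List.mem_cons_self ..)),
      ev_sub8 w fun t ht => h t (List.mem_cons_of_mem _ ht)]

theorem exists_sub : ∃ ψ : P →* Spor.Fi22, ∀ s, ψ (g s) = sub8 s := by
  refine pres.exists_hom sub8 (fun s => ?_) (fun w hw => ?_) fun s hs => ?_
  · unfold sub8; split_ifs <;> simp [Fi22.g_sq]
  · have hl : Act.lettersOk 8 words = true := by decide +kernel
    have hd : (words.all fun w => derivedOk 9 Fi22.words (w.map fun s => s + 1)) = true := by decide +kernel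
    rw [ev_sub8 w (Act.lt_of_lettersOk hl hw)]
    exact ev_derived (fun t _ => Fi22.g_sq t) Fi22.g_words (List.all_eq_true.1 hd w hw)
  · have : 8 ≤ s := hs
    simp [sub8, Nat.not_lt.2 this]

theorem nonempty_sub : Nonempty (val Fi22.g Fi22.lv1W ≃* POmega (ZMod 3) (quadFormOdd 3 (ZMod 3))) := by
  obtain ⟨ψ, hψ⟩ := exists_sub
  have := finite
  have := Fi22.finite
  have hr : ψ.range = val Fi22.g Fi22.lv1W := by
    rw [MonoidHom.range_eq_map, ← g_gen, MonoidHom.map_closure]
    show _ = Subgroup.closure {y | ∃ w ∈ Fi22.lv1W, ev Fi22.g w = y}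
    congr 1
    ext y
    simp only [Set.mem_image, Set.mem_setOf_eq]
    constructor
    · rintro ⟨x, ⟨i, hi, rfl⟩, rfl⟩
      exact ⟨[i + 1], (by interval_cases i <;> decide), by simp [ev, hψ, sub8, hi]⟩
    · rintro ⟨w, hw, rfl⟩
      obtain ⟨i, hi, rfl⟩ := List.getElem_of_mem hw
      have hi' : i < 8 := hi
      refine ⟨_, ⟨i, hi', rfl⟩, ?_⟩
      rw [hψ, sub8, if_pos hi']
      interval_cases i <;> simp [Fi22.lv1W, ev]
  have hc : Nat.card ψ.range = 4585351680 := by
    rw [hr, Fi22.stabA, card_stab Fi22.trA (k := 4585351680) Fi22.card_eq]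
  have hb : Function.Bijective ψ.rangeRestrict :=
    (Nat.bijective_iff_surjective_and_card _).2 ⟨ψ.rangeRestrict_surjective, card_eq.trans hc.symm⟩
  obtain ⟨e⟩ := nonempty_iso
  exact ⟨((MulEquiv.subgroupCongr hr).symm.trans (MulEquiv.ofBijective _ hb).symm).trans e⟩

end Cfsg.Agent.Spor.Cos.O7
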