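import Cfsg.Agent.Lib.Spor.Cos.O7.ActARel0
import Cfsg.Agent.Lib.Spor.Cos.O7.ActARel1

/-! Data and checks for a presented sporadic group. -/

set_option autoImplicit false
set_option maxRecDepth 100000
set_option maxHeartbeats 4000000

namespace Cfsg.Agent.Spor.Cos.O7

theorem actA_rels : ∀ i < 3159, (actA.chkFix words) i = true :=
  of_blocks (size := 256) (b := 13) (by decide) (by decide) fun j hj => by
    interval_cases j
    · exact actA_rels0
    · exact actA_rels1
    · exact actA_rels2
    · exact actA_rels3
    · exact actA_rels4
    · exact actA_rels5
    · exact actA_rels6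
    · exact actA_rels7
    · exact actA_rels8
    · exact actA_rels9
    · exact actA_rels10
    · exact actA_rels11
    · exact actA_rels12

end Cfsg.Agent.Spor.Cos.O7
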