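import Cfsg.Prelude.Def_SporCoxeter

/-! The presented group on eight of the generators of Fi22. -/

set_option autoImplicit false

namespace Cfsg.Agent.Spor.Cos.O7

/-- The eight generators. -/
inductive Gen
  | b
  | c
  | d
  | e
  | f
  | g
  | h
  | i
  deriving DecidableEq

open FreeGroup (of)

/-- The diagram. -/
def edges : List (Gen × ℕ × Gen) :=
  [(.b, 3, .c), (.c, 3, .d), (.d, 3, .e), (.d, 3, .h), (.e, 3, .f), (.f, 3, .g), (.h, 3, .i)]

/-- The further relators. -/
def extra : List (FreeGroup Gen) := [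
  (of Gen.d * of Gen.c * of Gen.b * of Gen.d * of Gen.e * of Gen.f * of Gen.d * of Gen.h * of Gen.i) ^ 10,
  (of Gen.b * of Gen.c * of Gen.d * of Gen.e * of Gen.f * of Gen.g * of Gen.h) ^ 9 ]

/-- The group. -/
abbrev P : Type := Cfsg.Spor.CoxPresented Gen edges extra

end Cfsg.Agent.Spor.Cos.O7
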