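import Cfsg.Agent.Lib.Spor.Cos.O7.Sa2Closed0

/-! Data and checks for a presented sporadic group. -/

set_option autoImplicit false
set_option maxRecDepth 100000
set_option maxHeartbeats 4000000

namespace Cfsg.Agent.Spor.Cos.O7

theorem sa2_closed : ∀ i < 2240, (sa2.chkClosed actA sa2W) i = true :=
  of_blocks (size := 512) (b := 5) (by decide) (by decide) fun j hj => by
    interval_cases j
    · exact sa2_closed0
    · exact sa2_closed1
    · exact sa2_closed2
    · exact sa2_closed3
    · exact sa2_closed4

end Cfsg.Agent.Spor.Cos.O7
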