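import Cfsg.Agent.Lib.Spor.Cos.O7.Isometries
import Cfsg.Agent.Lib.Spor.Cos.O7.IsSimple
import Cfsg.Agent.Lib.Classical.OrthPOmegaCard

/-!
The presented group on eight generators as an orthogonal group of dimension 7 over three elements.
-/

set_option autoImplicit false
set_option maxRecDepth 100000

open Matrix Cfsg.Agent.Classical Cfsg.Agent.Classical.OrthAut
open scoped commutatorElement

namespace Cfsg.Agent.Spor.Cos.O7

/-- The isometry group. -/
abbrev OG : Type := isometryGroup (ZMod 3) (quadFormOdd 3 (ZMod 3))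

theorem ev_const {G : Type*} [Group G] {h : ℕ → G} {a : G} : ∀ w : List ℕ, (∀ s ∈ w, h s = a) → ev h w = a ^ w.length
  | [], _ => by simp [ev]
  | s :: w, hw => by
    rw [ev, hw s (List.mem_cons_self ..), ev_const w fun t ht => hw t (List.mem_cons_of_mem _ ht), List.length_cons,
      pow_succ']

theorem iso_mem (s : ℕ) : iso s ∈ Omega (ZMod 3) (quadFormOdd 3 (ZMod 3)) := by
  by_cases hs : s < 8
  swap
  · have : iso s = 1 := Subtype.ext (Units.ext (by
      show mat s = 1
      ext i j; simp [mat, hs, Matrix.one_apply]))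
    rw [this]; exact one_mem _
  set χ := (QuotientGroup.mk' (Omega (ZMod 3) (quadFormOdd 3 (ZMod 3))) : OG →* _)
  set a : ℕ → _ := fun t => χ (iso t)
  have hc : ∀ x y, a x * a y = a y * a x := fun x y => by
    simp only [a, ← map_mul]
    refine (QuotientGroup.eq).2 ?_
    have e : (iso x * iso y)⁻¹ * (iso y * iso x) = ⁅(iso y)⁻¹, (iso x)⁻¹⁆ := by
      simp [commutatorElement_def, mul_assoc]
    rw [e]
    exact Subgroup.commutator_mem_commutator (Subgroup.mem_top _) (Subgroup.mem_top _)
  have hw : ∀ w ∈ words, ev a w = 1 := fun w hw => by rw [← ev_map χ iso w, iso_words w hw, map_one]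
  have hsq : ∀ x, a x * a x = 1 := fun x => by simp only [a, ← map_mul, iso_sq, map_one]
  have he : ∀ x y, [x, y, x, y, x, y] ∈ words → a x = a y := fun x y h => by
    have h1 := hw _ h
    simp only [ev, mul_one] at h1
    have h2 : a x * a y = 1 := by
      calc a x * a y = a x * (a y * a x) * a y * (a x * a y) := by
            rw [hc y x]; simp only [← mul_assoc]
            rw [hsq x, one_mul, hsq y, one_mul]
        _ = 1 := by rw [← h1]; simp [mul_assoc]
    rw [eq_inv_of_mul_eq_one_left h2]
    exact inv_eq_of_mul_eq_one_left (hsq y)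
  have e01 := he 0 1 (by decide +kernel)
  have e12 := he 1 2 (by decide +kernel)
  have e23 := he 2 3 (by decide +kernel)
  have e34 := he 3 4 (by decide +kernel)
  have e45 := he 4 5 (by decide +kernel)
  have e26 := he 2 6 (by decide +kernel)
  have e67 := he 6 7 (by decide +kernel)
  have all : ∀ t < 8, a t = a s := by
    have h0 : ∀ t < 8, a t = a 0 := by
      intro t ht
      interval_cases t <;> simp only [← e67, ← e26, ← e45, ← e34, ← e23, ← e12, ← e01]
    exact fun t ht => (h0 t ht).trans (h0 s hs).symm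
  have hl : Act.lettersOk 8 words = true := by decide +kernel
  have hm : (List.replicate 9 [0, 1, 2, 3, 4, 5, 6]).flatten ∈ words := by decide +kernel
  have h63 := hw _ hm
  rw [ev_const (a := a s) _ fun t ht => all t (Act.lt_of_lettersOk hl hm t ht)] at h63
  have hlen : ((List.replicate 9 [0, 1, 2, 3, 4, 5, 6]).flatten).length = 2 * 31 + 1 := rfl
  rw [hlen, pow_succ, pow_mul, pow_two, hsq, one_pow, one_mul] at h63
  exact (QuotientGroup.eq_one_iff _).1 h63

/-- The generators in the simple orthogonal group. -/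
noncomputable def sigma (s : ℕ) : POmega (ZMod 3) (quadFormOdd 3 (ZMod 3)) := QuotientGroup.mk ⟨iso s, iso_mem s⟩

theorem card_pOmega_le : Nat.card (POmega (ZMod 3) (quadFormOdd 3 (ZMod 3))) ≤ 4585351680 := by
  have h2' : ((2 : ℕ) : ZMod 3) ≠ 0 := by decide
  haveI : Fact (Nat.Prime 3) := ⟨Nat.prime_three⟩
  have h2 : (2 : ZMod 3) ≠ 0 := by exact_mod_cast h2'
  have hQ := nondegenerate_qfOdd (F := ZMod 3) 3 h2
  have hn : 2 ≤ Fintype.card V7 := by decide
  have hi : (Omega (ZMod 3) (qfOdd 3 (ZMod 3))).index = 4 :=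
    index_omega_odd hQ (genQ_of_card (Or.inr (by decide))) h2 hn
  have h := card_pomega_mul (qfOdd 3 (ZMod 3))
  rw [hi] at h
  have ho := order_qfOdd (F := ZMod 3) h2 3
  rw [ZMod.card] at ho
  simp only [Finset.prod_range_succ, Finset.prod_range_zero] at ho
  norm_num at ho
  have hz : 0 < Nat.card (Subgroup.center (Omega (ZMod 3) (qfOdd 3 (ZMod 3)))) := Nat.card_pos
  have ho' : isoCard (qfOdd 3 (ZMod 3)) = 18341406720 := by exact_mod_cast ho
  rw [ho'] at h
  have : 4 * Nat.card (POmega (ZMod 3) (qfOdd 3 (ZMod 3))) ≤ 18341406720 := by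
    rw [← h, mul_comm _ 4, mul_assoc]
    exact Nat.mul_le_mul le_rfl (Nat.le_mul_of_pos_left _ hz)
  rw [show quadFormOdd 3 (ZMod 3) = ⇑(qfOdd 3 (ZMod 3)) from funext fun v => (qfOdd_apply ..).symm]
  omega

theorem nonempty_iso : Nonempty (P ≃* POmega (ZMod 3) (quadFormOdd 3 (ZMod 3))) := by
  have := finite
  have := isSimple
  let f : ℕ → Omega (ZMod 3) (quadFormOdd 3 (ZMod 3)) := fun s => ⟨iso s, iso_mem s⟩
  obtain ⟨φ, hφ⟩ := pres.exists_hom sigma
    (fun s => congrArg QuotientGroup.mk (show f s * f s = 1 from Subtype.ext (iso_sq s)))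
    (fun w hw => by
      have h1 : ev f w = 1 := Subtype.ext ((ev_map (Omega (ZMod 3) (quadFormOdd 3 (ZMod 3))).subtype f w).trans
        (iso_words w hw))
      have h2 := ev_map (QuotientGroup.mk' (Subgroup.center (Omega (ZMod 3) (quadFormOdd 3 (ZMod 3))))) f w
      rw [h1, map_one] at h2
      exact h2.symm)
    (fun s hs => by
      have hs' : 8 ≤ s := hs
      have : f s = 1 := Subtype.ext (Subtype.ext (Units.ext (by
        show mat s = 1
        ext i j; simp [mat, Nat.not_lt.2 hs', Matrix.one_apply])))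
      exact congrArg QuotientGroup.mk this)
  have hinj : Function.Injective φ := by
    rw [← MonoidHom.ker_eq_bot_iff]
    refine (IsSimpleGroup.eq_bot_or_eq_top_of_normal φ.ker inferInstance).resolve_right fun h => ?_
    have h0 : sigma 0 = 1 := (hφ 0).symm.trans (MonoidHom.mem_ker.1 (h ▸ Subgroup.mem_top _))
    have hc := Subgroup.mem_center_iff.1 ((QuotientGroup.eq_one_iff (f 0)).1 h0) (f 1)
    have h1 : mat 1 * mat 0 = mat 0 * mat 1 :=
      congrArg (fun x : Omega (ZMod 3) (quadFormOdd 3 (ZMod 3)) => isoMat (x : OG)) hc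
    have h2 : ¬ mat 1 * mat 0 = mat 0 * mat 1 := by decide +kernel
    exact h2 h1
  have hc : Nat.card P = 4585351680 := card_eq
  haveI : Finite (POmega (ZMod 3) (quadFormOdd 3 (ZMod 3))) := Quotient.finite _
  refine ⟨MulEquiv.ofBijective φ ((Nat.bijective_iff_injective_and_card φ).2 ⟨hinj, ?_⟩)⟩
  exact le_antisymm (Nat.card_le_card_of_injective φ hinj) (card_pOmega_le.trans hc.ge)

end Cfsg.Agent.Spor.Cos.O7
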