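import Cfsg.Agent.Lib.Spor.Cos.O7.ActVData
import Cfsg.Agent.Lib.Spor.Cos.O7.Words
import Cfsg.Prelude.Def_Classical

/-!
Eight isometries of the seven-dimensional quadratic space over three elements.
-/

set_option autoImplicit false
set_option maxRecDepth 100000
set_option maxHeartbeats 1000000

open Matrix

namespace Cfsg.Agent.Spor.Cos.O7

/-- The index set of the form. -/
abbrev V7 : Type := Unit ⊕ (Fin 3 ⊕ Fin 3)

/-- The place of an index. -/
def pos7 : V7 → ℕ
  | .inl _ => 0
  | .inr (.inl i) => 1 + i
  | .inr (.inr i) => 4 + i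

/-- A matrix from its rows. -/
def mat (s : ℕ) : Matrix V7 V7 (ZMod 3) :=
  Matrix.of fun i j => if s < 8 then ((((rows.getD s []).getD (pos7 i) []).getD (pos7 j) 0 : ℕ) : ZMod 3)
    else if i = j then 1 else 0

/-- A vector from its code. -/
def vec (p : ℕ) : V7 → ZMod 3 := fun i => ((p / 3 ^ pos7 i % 3 : ℕ) : ZMod 3)

/-- The matrices agree with the table and keep the form. -/
noncomputable def chkV (p : ℕ) : Bool :=
  (List.range 8).all fun s => force (actV.im p s) fun q =>
    decide (q < 2187) && decide (mat s *ᵥ vec p = vec q) &&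
      decide (quadFormOdd 3 (ZMod 3) (vec q) = quadFormOdd 3 (ZMod 3) (vec p))

theorem vchk0 : allBlock chkV 2187 128 0 = true := by decide +kernel

theorem vchk1 : allBlock chkV 2187 128 1 = true := by decide +kernel

theorem vchk2 : allBlock chkV 2187 128 2 = true := by decide +kernel

theorem vchk3 : allBlock chkV 2187 128 3 = true := by decide +kernel

theorem vchk4 : allBlock chkV 2187 128 4 = true := by decide +kernel

theorem vchk5 : allBlock chkV 2187 128 5 = true := by decide +kernel

theorem vchk6 : allBlock chkV 2187 128 6 = true := by decide +kernel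

theorem vchk7 : allBlock chkV 2187 128 7 = true := by decide +kernel

theorem vchk8 : allBlock chkV 2187 128 8 = true := by decide +kernel

theorem vchk9 : allBlock chkV 2187 128 9 = true := by decide +kernel

theorem vchk10 : allBlock chkV 2187 128 10 = true := by decide +kernel

theorem vchk11 : allBlock chkV 2187 128 11 = true := by decide +kernel

theorem vchk12 : allBlock chkV 2187 128 12 = true := by decide +kernel

theorem vchk13 : allBlock chkV 2187 128 13 = true := by decide +kernel

theorem vchk14 : allBlock chkV 2187 128 14 = true := by decide +kernel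

theorem vchk15 : allBlock chkV 2187 128 15 = true := by decide +kernel

theorem vchk16 : allBlock chkV 2187 128 16 = true := by decide +kernel

theorem vchk17 : allBlock chkV 2187 128 17 = true := by decide +kernel

theorem vchk : ∀ p < 2187, chkV p = true :=
  of_blocks (size := 128) (b := 18) (by decide) (by decide) fun j hj => by
    interval_cases j
    · exact vchk0
    · exact vchk1
    · exact vchk2
    · exact vchk3
    · exact vchk4
    · exact vchk5
    · exact vchk6
    · exact vchk7
    · exact vchk8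
    · exact vchk9
    · exact vchk10
    · exact vchk11
    · exact vchk12
    · exact vchk13
    · exact vchk14
    · exact vchk15
    · exact vchk16
    · exact vchk17

theorem vec_surj (v : V7 → ZMod 3) : ∃ p < 2187, vec p = v := by
  refine ⟨(ZMod.val (v (.inl ()))) + 3 * (ZMod.val (v (.inr (.inl 0)))) + 9 * (ZMod.val (v (.inr (.inl 1)))) + 27 * (ZMod.val (v (.inr (.inl 2)))) +
    81 * (ZMod.val (v (.inr (.inr 0)))) + 243 * (ZMod.val (v (.inr (.inr 1)))) + 729 * (ZMod.val (v (.inr (.inr 2)))), ?_, ?_⟩
  · have := fun i => ZMod.val_lt (v i)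
    have a0 := this (.inl ()); have a1 := this (.inr (.inl 0)); have a2 := this (.inr (.inl 1))
    have a3 := this (.inr (.inl 2)); have a4 := this (.inr (.inr 0)); have a5 := this (.inr (.inr 1))
    have a6 := this (.inr (.inr 2))
    omega
  · funext i
    have hv : ∀ i, ZMod.val (v i) < 3 := fun i => ZMod.val_lt _
    have key : ∀ (i : V7) (n : ℕ), n % 3 = ZMod.val (v i) → ((n % 3 : ℕ) : ZMod 3) = v i := fun i n h => by
      rw [h, ZMod.natCast_zmod_val]
    have := hv (.inl ()); have := hv (.inr (.inl 0)); have := hv (.inr (.inl 1)); have := hv (.inr (.inl 2))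
    have := hv (.inr (.inr 0)); have := hv (.inr (.inr 1)); have := hv (.inr (.inr 2))
    rcases i with u | ⟨i, hi⟩ | ⟨i, hi⟩ <;> refine key _ _ ?_
    · show _ / 3 ^ 0 % 3 = ZMod.val (v (.inl ()))
      omega
    · rcases i with _ | _ | _ | i
      · show _ / 3 ^ 1 % 3 = (ZMod.val (v (.inr (.inl 0))))
        omega
      · show _ / 3 ^ 2 % 3 = (ZMod.val (v (.inr (.inl 1))))
        omega
      · show _ / 3 ^ 3 % 3 = (ZMod.val (v (.inr (.inl 2))))
        omega
      · omega
    · rcases i with _ | _ | _ | i
      · show _ / 3 ^ 4 % 3 = (ZMod.val (v (.inr (.inr 0))))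
        omega
      · show _ / 3 ^ 5 % 3 = (ZMod.val (v (.inr (.inr 1))))
        omega
      · show _ / 3 ^ 6 % 3 = (ZMod.val (v (.inr (.inr 2))))
        omega
      · omega

theorem mat_sq (s : ℕ) : mat s * mat s = 1 := by
  by_cases h : s < 8
  · interval_cases s <;> decide +kernel
  · have : mat s = 1 := by ext i j; simp [mat, h, Matrix.one_apply]
    rw [this, one_mul]

theorem mat_step {s p : ℕ} (hs : s < 8) (hp : p < 2187) : actV.im p s < 2187 ∧ mat s *ᵥ vec p = vec (actV.im p s) ∧
    quadFormOdd 3 (ZMod 3) (vec (actV.im p s)) = quadFormOdd 3 (ZMod 3) (vec p) := by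
  have h := List.all_eq_true.1 (vchk p hp) s (List.mem_range.2 hs)
  simp only [force_eq, Bool.and_eq_true, decide_eq_true_eq] at h
  exact ⟨h.1.1, h.1.2, h.2⟩

theorem mat_isometry (s : ℕ) (v : V7 → ZMod 3) :
    quadFormOdd 3 (ZMod 3) (mat s *ᵥ v) = quadFormOdd 3 (ZMod 3) v := by
  by_cases h : s < 8
  · obtain ⟨p, hp, rfl⟩ := vec_surj v
    obtain ⟨-, e1, e2⟩ := mat_step h hp
    rw [e1, e2]
  · have : mat s = 1 := by ext i j; simp [mat, h, Matrix.one_apply]
    rw [this, Matrix.one_mulVec]

/-- The isometries. -/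
def iso (s : ℕ) : isometryGroup (ZMod 3) (quadFormOdd 3 (ZMod 3)) :=
  ⟨⟨mat s, mat s, mat_sq s, mat_sq s⟩, fun u _ => mat_isometry s u⟩

theorem iso_sq (s : ℕ) : iso s * iso s = 1 := Subtype.ext (Units.ext (mat_sq s))

/-- The matrix of an isometry. -/
def isoMat : isometryGroup (ZMod 3) (quadFormOdd 3 (ZMod 3)) →* Matrix V7 V7 (ZMod 3) :=
  (Units.coeHom _).comp (isometryGroup (ZMod 3) (quadFormOdd 3 (ZMod 3))).subtype

theorem ev_vec : ∀ w : List ℕ, (∀ s ∈ w, s < 8) → ∀ p < 2187,
    actV.go w p < 2187 ∧ isoMat (ev iso w) *ᵥ vec p = vec (actV.go w p)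
  | [], _, p, hp => ⟨hp, by rw [ev, map_one, Matrix.one_mulVec, Act.go_nil]⟩
  | s :: w, h, p, hp => by
    obtain ⟨h1, h2⟩ := ev_vec w (fun t ht => h t (List.mem_cons_of_mem _ ht)) p hp
    obtain ⟨h3, h4, -⟩ := mat_step (h s (List.mem_cons_self ..)) h1
    rw [Act.go_cons]
    refine ⟨h3, ?_⟩
    rw [ev, map_mul, ← Matrix.mulVec_mulVec, h2]
    exact h4

/-- The codes of the basis. -/
def basisCode (j : V7) : ℕ := 3 ^ pos7 j

theorem vec_basis : ∀ j : V7, vec (basisCode j) = Pi.single j 1 ∧ basisCode j < 2187 := by decide +kernel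

theorem words_basis : ∀ j : V7, actV.chkFix words (basisCode j) = true := by decide +kernel

theorem iso_words : ∀ w ∈ words, ev iso w = 1 := by
  intro w hw
  have hl : Act.lettersOk 8 words = true := by decide +kernel
  refine Subtype.ext (Units.ext ?_)
  show isoMat (ev iso w) = 1
  ext i j
  have h := (ev_vec w (Act.lt_of_lettersOk hl hw) _ (vec_basis j).2).2
  rw [Nat.eq_of_beq_eq_true (List.all_eq_true.1 (words_basis j) w hw), (vec_basis j).1, Matrix.mulVec_single_one] at h
  have := congrFun h i
  simp only [Matrix.col_apply] at this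
  rw [this, Matrix.one_apply, Pi.single_apply]

end Cfsg.Agent.Spor.Cos.O7
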