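import Cfsg.Agent.Lib.Spor.Cos.O7.Lv0Data
import Cfsg.Agent.Lib.Spor.Cos.O7.ActAData

/-! Data and checks for a presented sporadic group. -/

set_option autoImplicit false
set_option maxRecDepth 100000
set_option maxHeartbeats 4000000

namespace Cfsg.Agent.Spor.Cos.O7

theorem lv0_ents0 : allBlock (lv0.chkEnt actA lv0W 0) 3159 512 0 = true := by decide +kernel

theorem lv0_ents1 : allBlock (lv0.chkEnt actA lv0W 0) 3159 512 1 = true := by decide +kernel

theorem lv0_ents2 : allBlock (lv0.chkEnt actA lv0W 0) 3159 512 2 = true := by decide +kernel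

theorem lv0_ents3 : allBlock (lv0.chkEnt actA lv0W 0) 3159 512 3 = true := by decide +kernel

theorem lv0_ents4 : allBlock (lv0.chkEnt actA lv0W 0) 3159 512 4 = true := by decide +kernel

theorem lv0_ents5 : allBlock (lv0.chkEnt actA lv0W 0) 3159 512 5 = true := by decide +kernel

theorem lv0_ents6 : allBlock (lv0.chkEnt actA lv0W 0) 3159 512 6 = true := by decide +kernel


end Cfsg.Agent.Spor.Cos.O7
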