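import Cfsg.Agent.Lib.Spor.Cos.Orb

/-! Data and checks for a presented sporadic group. -/

set_option autoImplicit false
set_option maxRecDepth 100000
set_option maxHeartbeats 4000000

namespace Cfsg.Agent.Spor.Cos.O7

def lv2EB0 : Bst := .node 1 (.leaf 0xb001200050009001100050008000f00000008000e00040007000d00050005000c00000005000b00040004000a000300040009000500030008000400020007000200020006000400010005000100010004000000000003000000000002) (.node 2 (.leaf 0x4001c004e0000001b004100040019003900050018003800040016002f0004001500290005001400280002001400270004001200210005001100200005000f001c0001000f001b0004000e00190005000c00160001000c00150005000b0013) (.leaf 0x1002100950000001f006c0000001d004f))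

/-- The table lv2E. -/
def lv2E : Tab := ⟨lv2EB0, 48, 4⟩

def lv2PB0 : Bst := .node 12 (.node 6 (.node 3 (.node 1 (.leaf 0xd000c000b000a000900080007000600050004000300020001000000000000) (.node 2 (.leaf 0x15001400000013000000000012001100000010000f000e0000) (.leaf 0x1b00000000000000000000001a001900180000000000000000000000170016))) (.node 4 (.leaf 0x1d001c00000000000000000000000000000000) (.node 5 (.leaf 0x20001f000000000000000000000000000000000000000000000000001e0000) (.leaf 0)))) (.node 9 (.node 7 (.leaf 0x21000000000000000000000000000000000000000000000000) (.leaf 0)) (.node 10 (.leaf 0x2200000000000000000000) (.leaf 0)))) (.leaf 0)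

/-- The table lv2P. -/
def lv2P : Tab := ⟨(.node 99 (.node 49 (.node 24 lv2PB0 (.leaf 0)) (.leaf 0)) (.leaf 0)), 16, 4⟩

/-- The words of `lv2`. -/
def lv2W : List (List ℕ) := [[2], [3], [4], [5], [6], [7]]

/-- An orbit of 35 points. -/
def lv2 : Orb := ⟨35, lv2E, lv2P⟩

end Cfsg.Agent.Spor.Cos.O7
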