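import Cfsg.Agent.Lib.Spor.Cos.Orb

/-! Data and checks for a presented sporadic group. -/

set_option autoImplicit false
set_option maxRecDepth 100000
set_option maxHeartbeats 4000000

namespace Cfsg.Agent.Spor.Cos.O7

def lv3EB0 : Bst := .leaf 0x40009000800040007000c00030006000500040004000f00030003000700000003000300040002001300030001000a00010001000400030000000d000200000006000000000009

/-- The table lv3E. -/
def lv3E : Tab := ⟨lv3EB0, 48, 4⟩

def lv3PB0 : Bst := .node 12 (.node 6 (.node 3 (.node 1 (.leaf 0x800000002000a000000040000000b00070001000900030006000000000000) (.node 2 (.leaf 0x5000000000000) (.leaf 0))) (.leaf 0)) (.leaf 0)) (.leaf 0)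

/-- The table lv3P. -/
def lv3P : Tab := ⟨(.node 99 (.node 49 (.node 24 lv3PB0 (.leaf 0)) (.leaf 0)) (.leaf 0)), 16, 4⟩

/-- The words of `lv3`. -/
def lv3W : List (List ℕ) := [[3], [4], [5], [6], [7]]

/-- An orbit of 12 points. -/
def lv3 : Orb := ⟨12, lv3E, lv3P⟩

end Cfsg.Agent.Spor.Cos.O7
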