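import Cfsg.Agent.Lib.Spor.Cos.Orb

/-! Data and checks for a presented sporadic group. -/

set_option autoImplicit false
set_option maxRecDepth 100000
set_option maxHeartbeats 4000000

namespace Cfsg.Agent.Spor.Cos.O7

def lv5EB0 : Bst := .leaf 0x6000000000004

/-- The table lv5E. -/
def lv5E : Tab := ⟨lv5EB0, 48, 4⟩

def lv5PB0 : Bst := .node 12 (.node 6 (.node 3 (.node 1 (.leaf 0x1000000000000000000000000) (.leaf 0)) (.leaf 0)) (.leaf 0)) (.leaf 0)

/-- The table lv5P. -/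
def lv5P : Tab := ⟨(.node 99 (.node 49 (.node 24 lv5PB0 (.leaf 0)) (.leaf 0)) (.leaf 0)), 16, 4⟩

/-- The words of `lv5`. -/
def lv5W : List (List ℕ) := [[4], [7]]

/-- An orbit of 2 points. -/
def lv5 : Orb := ⟨2, lv5E, lv5P⟩

end Cfsg.Agent.Spor.Cos.O7
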