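import Cfsg.Agent.Lib.Spor.Cos.O7.Words
import Cfsg.Agent.Lib.Spor.Cos.O7.Group
import Cfsg.Agent.Lib.Spor.Cos.Cox
import Cfsg.Agent.Lib.Spor.Cos.Orb
import Cfsg.Agent.Lib.Spor.Cos.Fi22.A4Cert
import Cfsg.Agent.Lib.Spor.Cos.Fi22.D5Cert
import Cfsg.Agent.Lib.Spor.Cos.Fi22.E6Cert
import Cfsg.Agent.Lib.Spor.Cos.Fi22.E7Cert
import Cfsg.Agent.Lib.Spor.Cos.Fi22.O7Cert

/-! Data and checks for a presented sporadic group. -/

set_option autoImplicit false
set_option maxRecDepth 100000
set_option maxHeartbeats 4000000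

open Cfsg.Spor

namespace Cfsg.Agent.Spor.Cos.O7

/-- The generators in order. -/
def alph : List Gen := [.b, .c, .d, .e, .f, .g, .h, .i]

/-- The place of a generator. -/
def num : Gen → ℕ
  | .b => 0
  | .c => 1
  | .d => 2
  | .e => 3
  | .f => 4
  | .g => 5
  | .h => 6
  | .i => 7

theorem pres : Pres edges extra alph num words where
  index := by intro a; cases a <;> rfl
  node := by intro a; cases a <;> decide
  order := rfl
  fromRels := by decide +kernel
  toBase := by decide +kernel

/-- The generators by number. -/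
noncomputable def g : ℕ → P := gen edges extra alph

theorem g_sq (s : ℕ) : g s * g s = 1 := pres.inv s

theorem g_words : ∀ w ∈ words, ev g w = 1 := fun _ hw => pres.ev_base hw

theorem g_gen : Subgroup.closure {x | ∃ s < 8, g s = x} = ⊤ := pres.closure_gen

theorem upper : Finite P ∧ Nat.card P ≤ 4585351680 := by
  have h0 : Bound g [] 1 := Bound.nil
  have h1 : Bound g [0, 1, 2, 3] 120 :=
    Bound.step (d := 8) g_sq h0 Fi22.a4 Fi22.a4_checks rfl (by decide +kernel)
      (hbase_of g_sq g_words (n := 8) (by decide +kernel)) Fi22.a4_derived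
  have h2 : Bound g [0, 1, 2, 3, 6] 1920 :=
    Bound.step (d := 8) g_sq h1 Fi22.d5 Fi22.d5_checks rfl (by decide +kernel)
      (hbase_of g_sq g_words (n := 8) (by decide +kernel)) Fi22.d5_derived
  have h3 : Bound g [0, 1, 2, 3, 4, 6] 51840 :=
    Bound.step (d := 8) g_sq h2 Fi22.e6 Fi22.e6_checks rfl (by decide +kernel)
      (hbase_of g_sq g_words (n := 8) (by decide +kernel)) Fi22.e6_derived
  have h4 : Bound g [0, 1, 2, 3, 4, 5, 6] 1451520 :=
    Bound.step (d := 8) g_sq h3 Fi22.e7 Fi22.e7_checks rfl (by decide +kernel)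
      (hbase_of g_sq g_words (n := 8) (by decide +kernel)) Fi22.e7_derived
  have h5 : Bound g [0, 1, 2, 3, 4, 5, 6, 7] 4585351680 :=
    Bound.step (d := 8) g_sq h4 Fi22.o7 Fi22.o7_checks rfl (by decide +kernel)
      (hbase_of g_sq g_words (n := 8) (by decide +kernel)) Fi22.o7_derived
  exact Bound.top (n := 8) h5 g_gen

theorem finite : Finite P := upper.1

end Cfsg.Agent.Spor.Cos.O7
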