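import Cfsg.Agent.Lib.Spor.Cos.O7.Sa0Data
import Cfsg.Agent.Lib.Spor.Cos.O7.Sa1Data
import Cfsg.Agent.Lib.Spor.Cos.O7.Sa2Data

/-! Data and checks for a presented sporadic group. -/

set_option autoImplicit false
set_option maxRecDepth 100000
set_option maxHeartbeats 4000000

namespace Cfsg.Agent.Spor.Cos.O7

/-- The suborbits. -/
def saList : List (Orb × ℕ) := [(sa0, 1), (sa1, 23), (sa2, 122)]

end Cfsg.Agent.Spor.Cos.O7
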